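import Mathlib

/-!
# Top steps of finite ring extensions and lengths of cokernels
-/

set_option autoImplicit false
universe u

namespace Groth.Agent.PrimePushLib

variable {A B B' : Type u} [CommRing A] [CommRing B] [CommRing B']

/-- The length over `A` of the cokernel of a ring map out of `A`. -/
noncomputable def len (f : A →+* B) : ℕ∞ :=
  letI := f.toAlgebra
  Module.length A (B ⧸ LinearMap.range (Algebra.linearMap A B))

theorem len_le (f : A →+* B) (g : A →+* B') (h : B →+* B') (hc : h.comp f = g) (hi : Function.Injective h) :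
    len f ≤ len g ∧ (len g ≠ ⊤ → ¬ Function.Surjective h → (len f).toNat < (len g).toNat) := by
  letI := f.toAlgebra
  letI := g.toAlgebra
  let hl : B →ₐ[A] B' := ⟨h, fun r => RingHom.congr_fun hc r⟩
  let P := LinearMap.range (Algebra.linearMap A B)
  let Q := LinearMap.range (Algebra.linearMap A B')
  have hPQ : P ≤ Q.comap hl.toLinearMap := by
    rintro x ⟨r, rfl⟩
    exact ⟨r, (hl.commutes r).symm⟩
  let ψ : (B ⧸ P) →ₗ[A] B' ⧸ Q := P.mapQ Q hl.toLinearMap hPQ
  have hψ : Function.Injective ψ := by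
    rw [injective_iff_map_eq_zero]
    intro x hx
    obtain ⟨b, rfl⟩ := Submodule.Quotient.mk_surjective P x
    rw [Submodule.mapQ_apply, Submodule.Quotient.mk_eq_zero] at hx
    obtain ⟨r, hr⟩ := hx
    refine (Submodule.Quotient.mk_eq_zero P).2 ⟨r, hi ?_⟩
    exact (hl.commutes r).trans hr
  have hle : Module.length A (B ⧸ P) ≤ Module.length A (B' ⧸ Q) := Module.length_le_of_injective ψ hψ
  refine ⟨hle, fun hfin hns => ?_⟩
  have hn : Nontrivial ((B' ⧸ Q) ⧸ LinearMap.range ψ) := by
    refine Submodule.Quotient.nontrivial_iff.2 fun htop => hns fun b' => ?_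
    obtain ⟨x, hx⟩ := (htop ▸ Submodule.mem_top : Submodule.Quotient.mk b' ∈ LinearMap.range ψ)
    obtain ⟨b, rfl⟩ := Submodule.Quotient.mk_surjective P x
    rw [Submodule.mapQ_apply, Submodule.Quotient.eq] at hx
    obtain ⟨r, hr⟩ := hx
    refine ⟨b - algebraMap A B r, ?_⟩
    have h1 : h (algebraMap A B r) = algebraMap A B' r := hl.commutes r
    rw [map_sub, h1]
    show hl b - algebraMap A B' r = b'
    rw [show algebraMap A B' r = hl b - b' from hr]
    ring
  have hsum := Module.length_eq_add_of_exact ψ (LinearMap.range ψ).mkQ hψ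
    (Submodule.mkQ_surjective _) (LinearMap.exact_map_mkQ_range ψ)
  have hpos : 0 < Module.length A ((B' ⧸ Q) ⧸ LinearMap.range ψ) := Module.length_pos
  change Module.length A (B' ⧸ Q) ≠ ⊤ at hfin
  show (Module.length A (B ⧸ P)).toNat < (Module.length A (B' ⧸ Q)).toNat
  rw [hsum] at hfin
  rw [ne_eq, ENat.add_eq_top, not_or] at hfin
  rw [hsum, ENat.toNat_add hfin.1 hfin.2]
  have : (Module.length A ((B' ⧸ Q) ⧸ LinearMap.range ψ)).toNat ≠ 0 := by
    rw [ne_eq, ENat.toNat_eq_zero]
    exact fun h => h.elim hpos.ne' hfin.2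
  omega

/-- The cokernel has finite length when it is killed, locally away from finitely many maximal ideals. -/
theorem len_ne_top [IsNoetherianRing A] (f : A →+* B) (hf : f.Finite)
    (h : ∀ p : Ideal A, p.IsPrime → ¬ p.IsMaximal → ∃ r : A, r ∉ p ∧ ∀ b : B, ∃ (n : ℕ) (a : A), f r ^ n * b = f a) :
    len f ≠ ⊤ := by
  letI := f.toAlgebra
  haveI : Module.Finite A B := hf
  let M := B ⧸ LinearMap.range (Algebra.linearMap A B)
  show Module.length A M ≠ ⊤
  let I := Module.annihilator A M
  haveI : Ring.KrullDimLE 0 (A ⧸ I) := by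
    refine Ring.krullDimLE_zero_iff.2 fun P hP => ?_
    let p := P.comap (Ideal.Quotient.mk I)
    haveI : p.IsPrime := Ideal.IsPrime.comap _
    have hIp : I ≤ p := fun x hx => by
      show Ideal.Quotient.mk I x ∈ P
      rw [Ideal.Quotient.eq_zero_iff_mem.2 hx]
      exact P.zero_mem
    have hpm : p.IsMaximal := by
      by_contra hn
      obtain ⟨r, hr, hrb⟩ := h p inferInstance hn
      obtain ⟨s, hs⟩ := (Module.Finite.fg_top : (⊤ : Submodule A M).FG)
      have hm : ∀ m : M, ∃ n : ℕ, r ^ n • m = 0 := by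
        intro m
        obtain ⟨b, rfl⟩ := Submodule.Quotient.mk_surjective _ m
        obtain ⟨n, a, ha⟩ := hrb b
        refine ⟨n, ?_⟩
        rw [← Submodule.Quotient.mk_smul, Submodule.Quotient.mk_eq_zero, Algebra.smul_def, map_pow]
        exact ⟨a, ha.symm⟩
      choose n hn' using hm
      have hkill : r ^ (s.sup n) ∈ I := by
        refine Module.mem_annihilator.2 fun m => ?_
        have hm : m ∈ Submodule.span A (s : Set M) := by rw [hs]; trivial
        induction hm using Submodule.span_induction with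
        | mem x hx =>
          rw [← Nat.sub_add_cancel (Finset.le_sup (f := n) hx), pow_add, mul_smul, hn', smul_zero]
        | zero => exact smul_zero _
        | add x y _ _ hx hy => rw [smul_add, hx, hy, add_zero]
        | smul c x _ hx => rw [smul_comm, hx, smul_zero]
      exact hr (Ideal.IsPrime.mem_of_pow_mem inferInstance _ (hIp hkill))
    refine ⟨⟨hP.ne_top, fun K hK => ?_⟩⟩
    by_contra hne
    have h1 : p < K.comap (Ideal.Quotient.mk I) :=
      lt_of_le_of_ne (Ideal.comap_mono hK.le) fun e => hK.ne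
        (Ideal.comap_injective_of_surjective _ Ideal.Quotient.mk_surjective e)
    exact hne (Ideal.comap_eq_top_iff.1 (hpm.1.2 _ h1))
  haveI : IsArtinianRing (A ⧸ I) :=
    isArtinianRing_iff_isNoetherianRing_krullDimLE_zero.2 ⟨inferInstance, inferInstance⟩
  obtain ⟨k, π, hπ⟩ := Module.Finite.exists_fin' A M
  haveI : IsArtinian A (A ⧸ I) := isArtinian_of_surjective_algebraMap (R := A ⧸ I) (S := A)
    Ideal.Quotient.mk_surjective
  let π' : (Fin k → A ⧸ I) →ₗ[A] M := ∑ i, ((Submodule.liftQ I (LinearMap.toSpanSingleton A M (π (Pi.single i 1)))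
    (fun x hx => Module.mem_annihilator.1 hx _)).comp (LinearMap.proj i))
  have hπ' : Function.Surjective π' := by
    intro m
    obtain ⟨c, rfl⟩ := hπ m
    refine ⟨fun i => Ideal.Quotient.mk I (c i), ?_⟩
    conv_rhs => rw [← Finset.univ_sum_single c, map_sum]
    simp only [π', LinearMap.sum_apply, LinearMap.comp_apply, LinearMap.proj_apply]
    refine Finset.sum_congr rfl fun i _ => ?_
    show LinearMap.toSpanSingleton A M (π (Pi.single i 1)) (c i) = _
    rw [LinearMap.toSpanSingleton_apply, ← map_smul, ← Pi.single_smul, smul_eq_mul, mul_one]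
  haveI : IsArtinian A M := isArtinian_of_surjective _ π' hπ'
  exact Module.length_ne_top

/-- A maximal intermediate algebra of a finite extension, with a maximal ideal stable in the extension. -/
theorem exists_top_step [Algebra A B] [IsNoetherianRing A] [Module.Finite A B]
    (h : ¬ Function.Surjective (algebraMap A B)) :
    ∃ (B2 : Subalgebra A B) (J : Ideal B), (∀ x ∈ J, x ∈ B2) ∧ B2 ≠ ⊤ ∧
      (∀ S : Subalgebra A B, B2 ≤ S → S = B2 ∨ S = ⊤) ∧ (J.comap B2.val.toRingHom).IsMaximal := by
  haveI : IsNoetherian A B := inferInstance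
  let T : Set (Submodule A B) := Subalgebra.toSubmodule '' {S : Subalgebra A B | S ≠ ⊤}
  have hT : T.Nonempty := by
    refine ⟨_, ⊥, fun htop => h fun b => ?_, rfl⟩
    exact Algebra.mem_bot.1 (htop ▸ Algebra.mem_top : b ∈ (⊥ : Subalgebra A B))
  obtain ⟨_, ⟨B2, hB2, rfl⟩, hmax⟩ := (wellFounded_gt (α := Submodule A B)).has_min T hT
  have hmax' : ∀ S : Subalgebra A B, B2 ≤ S → S = B2 ∨ S = ⊤ := by
    intro S hS
    by_contra hh
    push Not at hh
    exact hmax _ ⟨S, hh.2, rfl⟩ (lt_of_le_of_ne hS fun e => hh.1 (Subalgebra.toSubmodule_injective e).symm)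
  haveI : Module.Finite B2 B := Module.Finite.of_restrictScalars_finite A B2 B
  let c : Ideal B2 :=
    { carrier := {r | ∀ b : B, (r : B) * b ∈ B2}
      add_mem' := fun {x y} hx hy b => by
        simp only [Subalgebra.coe_add, add_mul]
        exact add_mem (hx b) (hy b)
      zero_mem' := fun b => by simp
      smul_mem' := fun r x hx b => by
        simp only [smul_eq_mul, Subalgebra.coe_mul, mul_assoc]
        exact mul_mem r.2 (hx b) }
  have hc : c ≠ ⊤ := fun e => hB2 (top_le_iff.1 fun b _ => by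
    have := ((Ideal.eq_top_iff_one c).1 e) b
    simpa using this)
  obtain ⟨m, hm, hcm⟩ := Ideal.exists_le_maximal c hc
  let J : Ideal B := m.map B2.val.toRingHom
  let S : Subalgebra A B :=
    { carrier := {x | ∃ y ∈ B2, x - y ∈ J}
      mul_mem' := by
        rintro x x' ⟨y, hy, hxy⟩ ⟨y', hy', hxy'⟩
        refine ⟨y * y', mul_mem hy hy', ?_⟩
        have : x * x' - y * y' = x * (x' - y') + y' * (x - y) := by ring
        rw [this]
        exact add_mem (J.mul_mem_left _ hxy') (J.mul_mem_left _ hxy)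
      add_mem' := by
        rintro x x' ⟨y, hy, hxy⟩ ⟨y', hy', hxy'⟩
        exact ⟨y + y', add_mem hy hy', by rw [add_sub_add_comm]; exact add_mem hxy hxy'⟩
      algebraMap_mem' := fun r => ⟨_, B2.algebraMap_mem r, by simp⟩ }
  have hS : B2 ≤ S := fun y hy => ⟨y, hy, by simp⟩
  have hne : S ≠ ⊤ := by
    intro e
    let B2' : Submodule B2 B := LinearMap.range (Algebra.linearMap B2 B)
    let N := B ⧸ B2'
    have hN : (⊤ : Submodule B2 N) ≤ m • (⊤ : Submodule B2 N) := by
      intro q _
      obtain ⟨b, rfl⟩ := Submodule.Quotient.mk_surjective B2' q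
      obtain ⟨y, hy, hby⟩ : b ∈ S := by rw [e]; exact Algebra.mem_top
      have h1 : Submodule.Quotient.mk (p := B2') b = Submodule.Quotient.mk (b - y) :=
        (Submodule.Quotient.eq B2').2 ⟨⟨y, hy⟩, by simp⟩
      rw [h1]
      have h2 : b - y ∈ m • (⊤ : Submodule B2 B) := by
        rw [Ideal.smul_top_eq_map]
        exact hby
      have h3 := Submodule.mem_map_of_mem (f := B2'.mkQ) h2
      rw [Submodule.map_smul''] at h3
      exact Submodule.smul_mono le_rfl le_top h3
    obtain ⟨r, hr1, hr⟩ := Submodule.exists_sub_one_mem_and_smul_eq_zero_of_fg_of_le_smul m ⊤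
      Module.Finite.fg_top hN
    have hrc : r ∈ c := by
      intro b
      have h4 := hr (Submodule.Quotient.mk b) trivial
      rw [← Submodule.Quotient.mk_smul, Submodule.Quotient.mk_eq_zero] at h4
      obtain ⟨z, hz⟩ := h4
      have hz' : (z : B) = (r : B) * b := hz
      rw [← hz']
      exact z.2
    refine hm.ne_top ((Ideal.eq_top_iff_one m).2 ?_)
    have := sub_mem (hcm hrc) hr1
    simpa using this
  have hJ : ∀ x ∈ J, x ∈ B2 := fun x hx => by
    have h5 : x ∈ S := ⟨0, zero_mem B2, by simpa using hx⟩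
    rwa [(hmax' S hS).resolve_right hne] at h5
  refine ⟨B2, J, hJ, hB2, hmax', ?_⟩
  have hle : m ≤ J.comap B2.val.toRingHom := Ideal.le_comap_map
  have hne' : J.comap B2.val.toRingHom ≠ ⊤ := fun e => hB2 (top_le_iff.1 fun b _ => by
    have h1 : (1 : B) ∈ J := by simpa using (Ideal.eq_top_iff_one _).1 e
    exact hJ b (by simpa using J.mul_mem_left b h1))
  rwa [← hm.eq_of_le hne' hle]

/-- The quotient by the stable ideal has no other subalgebras. -/
theorem isSimpleOrder_subalgebra [Algebra A B] {B2 : Subalgebra A B} {J : Ideal B} (hJ : ∀ x ∈ J, x ∈ B2)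
    (hne : B2 ≠ ⊤) (hmax : ∀ S : Subalgebra A B, B2 ≤ S → S = B2 ∨ S = ⊤)
    {k : Type u} [CommRing k] [Algebra k (B ⧸ J)]
    (hrange : ∀ x : B ⧸ J, (∃ r, algebraMap k (B ⧸ J) r = x) ↔ ∃ y ∈ B2, Ideal.Quotient.mk J y = x) :
    IsSimpleOrder (Subalgebra k (B ⧸ J)) := by
  have hbot : ∀ b : B, Ideal.Quotient.mk J b ∈ (⊥ : Subalgebra k (B ⧸ J)) → b ∈ B2 := fun b hb => by
    obtain ⟨y, hy, hyb⟩ := (hrange _).1 (Algebra.mem_bot.1 hb)
    have := add_mem (hJ _ (Ideal.Quotient.eq.1 hyb.symm)) hy
    simpa using this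
  haveI : Nontrivial (Subalgebra k (B ⧸ J)) := ⟨⟨⊥, ⊤, fun e => hne (top_le_iff.1 fun b _ =>
    hbot b (by rw [e]; exact Algebra.mem_top))⟩⟩
  refine ⟨fun S => ?_⟩
  have hB : ∀ y ∈ B2, Ideal.Quotient.mk J y ∈ S := fun y hy => by
    obtain ⟨r, hr⟩ := (hrange _).2 ⟨y, hy, rfl⟩
    exact hr ▸ S.algebraMap_mem r
  let S' : Subalgebra A B :=
    { S.toSubsemiring.comap (Ideal.Quotient.mk J) with
      algebraMap_mem' := fun r => hB _ (B2.algebraMap_mem r) }
  rcases hmax S' (fun y hy => hB y hy) with e | e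
  · refine Or.inl (le_bot_iff.1 fun x hx => ?_)
    obtain ⟨b, rfl⟩ := Ideal.Quotient.mk_surjective x
    have hb : b ∈ B2 := e ▸ (show b ∈ S' from hx)
    exact Algebra.mem_bot.2 ((hrange _).2 ⟨b, hb, rfl⟩)
  · refine Or.inr (top_le_iff.1 fun x _ => ?_)
    obtain ⟨b, rfl⟩ := Ideal.Quotient.mk_surjective x
    exact (show b ∈ S' from e ▸ Algebra.mem_top)

end Groth.Agent.PrimePushLib
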