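import Groth.Agent.PrimePushLib.Step

/-!
# Finite birational maps are chains of pushouts along prime algebras
-/

set_option autoImplicit false
set_option backward.isDefEq.respectTransparency false
set_option linter.style.haveILetI false
set_option maxHeartbeats 800000
universe u
open CategoryTheory CategoryTheory.Limits AlgebraicGeometry

namespace Groth.Agent.PrimePushLib

theorem good_of_iso_off_finite {X X' : Scheme.{u}} [IsLocallyNoetherian X'] [JacobsonSpace X'] (β : X ⟶ X') [IsFinite β]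
    [IsSchemeTheoreticallyDominant β] (G : X'.Opens) (hG : (Gᶜ : Set X').Finite) [IsIso (β ∣_ G)] : Good β := by
  refine ⟨inferInstance, fun U hU => ?_, fun U hU => ?_⟩
  · rw [RingHom.injective_iff_ker_eq_bot, ← Scheme.Hom.ker_apply β ⟨U, hU⟩, β.ker_eq_bot]
    rfl
  haveI : IsNoetherianRing Γ(X', U) := IsLocallyNoetherian.component_noetherian ⟨U, hU⟩
  refine len_ne_top _ (IsFinite.finite_app (f := β) U hU) fun p hp hpm => ?_
  have hx : hU.fromSpec ⟨p, hp⟩ ∈ G := by
    by_contra hx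
    refine hpm ((PrimeSpectrum.isClosed_singleton_iff_isMaximal ⟨p, hp⟩).1 ?_)
    have hxc : IsClosed ({hU.fromSpec ⟨p, hp⟩} : Set X') := by
      have hcl := JacobsonSpace.closure_inter_closedPoints (X := (X' : Type u))
        (Z := closure {hU.fromSpec ⟨p, hp⟩}) isClosed_closure
      have hsub : closure {hU.fromSpec ⟨p, hp⟩} ⊆ (Gᶜ : Set X') :=
        G.isOpen.isClosed_compl.closure_subset_iff.2 (Set.singleton_subset_iff.2 hx)
      have hfin : (closure {hU.fromSpec ⟨p, hp⟩} ∩ closedPoints X').Finite :=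
        (hG.subset hsub).subset Set.inter_subset_left
      have hc : IsClosed (closure {hU.fromSpec ⟨p, hp⟩} ∩ closedPoints X') := by
        rw [← Set.biUnion_of_singleton (closure {hU.fromSpec ⟨p, hp⟩} ∩ closedPoints X')]
        exact hfin.isClosed_biUnion fun z hz => hz.2
      rw [hc.closure_eq] at hcl
      have h0 : hU.fromSpec ⟨p, hp⟩ ∈ closure {hU.fromSpec ⟨p, hp⟩} ∩ closedPoints X' := by
        rw [hcl]; exact subset_closure rfl
      exact h0.2
    have := hxc.preimage hU.fromSpec.continuous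
    rwa [show hU.fromSpec ⁻¹' {hU.fromSpec ⟨p, hp⟩} = {(⟨p, hp⟩ : PrimeSpectrum _)} from
      Set.eq_singleton_iff_unique_mem.2 ⟨rfl, fun q hq => hU.fromSpec.isOpenEmbedding.injective hq⟩] at this
  have hxU : hU.fromSpec ⟨p, hp⟩ ∈ U := SetLike.mem_coe.1 (hU.range_fromSpec ▸ ⟨_, rfl⟩)
  obtain ⟨r, hrG, hrx⟩ := hU.exists_basicOpen_le (V := G) ⟨_, hx⟩ hxU
  have hrp : r ∉ p := by
    have h1 : (⟨p, hp⟩ : PrimeSpectrum _) ∈ hU.fromSpec ⁻¹ᵁ X'.basicOpen r := hrx
    rw [hU.fromSpec_preimage_basicOpen] at h1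
    exact h1
  refine ⟨r, hrp, fun b => ?_⟩
  let s := (β.app U).hom r
  have hV := hU.preimage β
  have hle : X'.basicOpen r ≤ U := X'.basicOpen_le r
  have hpre : β ⁻¹ᵁ X'.basicOpen r = X.basicOpen s := Scheme.preimage_basicOpen β r
  have hsurj : Function.Surjective (β.app (X'.basicOpen r)).hom := by
    haveI : IsIso ((β ∣_ G).app (G.ι ⁻¹ᵁ X'.basicOpen r)) := inferInstance
    rw [morphismRestrict_app] at this
    haveI := this
    haveI : IsIso (β.app (G.ι ''ᵁ (G.ι ⁻¹ᵁ X'.basicOpen r))) := IsIso.of_isIso_comp_right _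
      (X.presheaf.map (eqToHom (image_morphismRestrict_preimage β G (G.ι ⁻¹ᵁ X'.basicOpen r))).op)
    have e : G.ι ''ᵁ (G.ι ⁻¹ᵁ X'.basicOpen r) = X'.basicOpen r := by
      rw [Scheme.Hom.image_preimage_eq_opensRange_inf, Scheme.Opens.opensRange_ι, inf_eq_right]
      exact hrG
    haveI : IsIso (β.app (X'.basicOpen r)) := e ▸ ‹IsIso (β.app (G.ι ''ᵁ (G.ι ⁻¹ᵁ X'.basicOpen r)))›
    exact (ConcreteCategory.bijective_of_isIso (β.app (X'.basicOpen r))).2
  let i' : β ⁻¹ᵁ X'.basicOpen r ⟶ β ⁻¹ᵁ U := homOfLE (β.preimage_mono hle)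
  let i : X'.basicOpen r ⟶ U := homOfLE hle
  letI := (X'.presheaf.map i.op).hom.toAlgebra
  haveI : IsLocalization.Away r Γ(X', X'.basicOpen r) := hU.isLocalization_of_eq_basicOpen r i rfl
  letI := (X.presheaf.map i'.op).hom.toAlgebra
  haveI : IsLocalization.Away s Γ(X, β ⁻¹ᵁ X'.basicOpen r) := hV.isLocalization_of_eq_basicOpen s i' hpre
  obtain ⟨c, hc⟩ := hsurj (algebraMap _ _ b)
  obtain ⟨⟨a, ⟨_, n, rfl⟩⟩, ha⟩ := IsLocalization.surj (Submonoid.powers r) c
  have hnat : ∀ z : Γ(X', U), (β.app (X'.basicOpen r)).hom (algebraMap _ Γ(X', X'.basicOpen r) z) =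
      algebraMap _ Γ(X, β ⁻¹ᵁ X'.basicOpen r) ((β.app U).hom z) :=
    fun z => ConcreteCategory.congr_hom (β.naturality i.op) z
  have h2 : algebraMap Γ(X, β ⁻¹ᵁ U) Γ(X, β ⁻¹ᵁ X'.basicOpen r) (s ^ n * b) =
      algebraMap Γ(X, β ⁻¹ᵁ U) Γ(X, β ⁻¹ᵁ X'.basicOpen r) ((β.app U).hom a) := by
    rw [map_mul, ← hc, ← hnat a, ← ha, map_mul]
    simp only [s]
    rw [← map_pow (β.app U).hom, ← hnat (r ^ n)]
    ring
  obtain ⟨⟨_, k, rfl⟩, hk⟩ := IsLocalization.exists_of_eq (M := Submonoid.powers s) h2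
  refine ⟨k + n, r ^ k * a, ?_⟩
  rw [pow_add, map_mul, map_pow, mul_assoc]
  exact hk

/-- A chain of pushouts along prime algebras factoring `β`, starting at the source of `β`. -/
def HasChain {X X' : Scheme.{u}} (β : X ⟶ X') : Prop :=
  ∃ (n : ℕ) (F : ComposableArrows Scheme.{u} n) (hl : F.left = X) (e' : F.right ≅ X'),
    eqToHom hl.symm ≫ F.hom ≫ e'.hom = β ∧
    ∀ i : Fin n, ∃ (x : F.obj i.succ) (A : Type u) (_ : CommRing A) (_ : Algebra ((F.obj i.succ).residueField x) A)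
      (_ : IsSimpleOrder (Subalgebra ((F.obj i.succ).residueField x) A))
      (j : Spec (CommRingCat.of A) ⟶ F.obj i.castSucc), IsClosedImmersion j ∧
      IsPushout j (Spec.map (CommRingCat.ofHom (algebraMap ((F.obj i.succ).residueField x) A)))
        (F.map (homOfLE (Fin.castSucc_lt_succ (i := i)).le)) ((F.obj i.succ).fromSpecResidueField x)

theorem hasChain_of_isIso {X X' : Scheme.{u}} (β : X ⟶ X') [IsIso β] : HasChain β := by
  refine ⟨0, ComposableArrows.mk₀ X, rfl, asIso β, ?_, fun i => i.elim0⟩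
  simp [ComposableArrows.hom, ComposableArrows.map']
  exact Category.id_comp β

theorem hasChain_cons {X P X' : Scheme.{u}} {a : X ⟶ P} {γ : P ⟶ X'} (ha : IsStep a) (h : HasChain γ) :
    HasChain (a ≫ γ) := by
  obtain ⟨n, F, hl, e', hγ, hF⟩ := h
  subst hl
  refine ⟨n + 1, F.precomp a, rfl, e', ?_, fun i => ?_⟩
  · rw [← hγ]
    simp only [eqToHom_refl, Category.id_comp]
    rw [← Category.assoc]
    congr 1
    cases n with
    | zero => 
      show a = a ≫ F.map' 0 0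
      simp
      exact (Category.comp_id a).symm
    | succ k => rfl
  · rcases Fin.eq_zero_or_eq_succ i with rfl | ⟨j, rfl⟩
    · exact ha
    · exact hF j

theorem isIso_of_surjective_app {X X' : Scheme.{u}} (β : X ⟶ X') (hβ : Good β) (S : Finset X'.affineOpens)
    (hS : ⨆ U : S, (U.1.1 : X'.Opens) = ⊤) (h : ∀ U ∈ S, Function.Surjective (β.app U.1).hom) : IsIso β := by
  haveI := hβ.fin
  refine (IsZariskiLocalAtTarget.iff_of_iSup_eq_top (P := MorphismProperty.isomorphisms Scheme) _ hS).2 fun U => ?_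
  let V := U.1.1
  have hV : IsAffineOpen V := U.1.2
  haveI : IsAffine V.toScheme := hV
  haveI : IsAffine (β ⁻¹ᵁ V).toScheme := hV.preimage β
  haveI : IsIso (β.app V) := (ConcreteCategory.isIso_iff_bijective _).2 ⟨hβ.inj V hV, h U.1 U.2⟩
  have hiso : IsIso (β ∣_ V).appTop := by
    have e : V.ι ''ᵁ ⊤ = V := V.ι_image_top
    haveI : IsIso (β.app (V.ι ''ᵁ ⊤)) := by rw [e]; infer_instance
    rw [Scheme.Hom.appTop, morphismRestrict_app]
    infer_instance
  exact (MorphismProperty.arrow_mk_iso_iff (MorphismProperty.isomorphisms _) (arrowIsoSpecΓOfIsAffine (β ∣_ V))).2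
    (inferInstanceAs (IsIso (Spec.map (β ∣_ V).appTop)))

theorem hasChain {X' : Scheme.{u}} [IsLocallyNoetherian X'] [JacobsonSpace X'] [CompactSpace X'] :
    ∀ {X : Scheme.{u}} (β : X ⟶ X'), Good β → HasChain β := by
  obtain ⟨S, hS⟩ : ∃ S : Finset X'.affineOpens, ⨆ U : S, (U.1.1 : X'.Opens) = ⊤ := by
    obtain ⟨t, ht⟩ := isCompact_univ.elim_finite_subcover (fun U : X'.affineOpens => (U.1 : Set X'))
      (fun U => U.1.isOpen) (fun x _ => by
        obtain ⟨U, hU, hx, -⟩ := exists_isAffineOpen_mem_and_subset (U := ⊤) (show x ∈ (⊤ : X'.Opens) from trivial)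
        exact Set.mem_iUnion.2 ⟨⟨U, hU⟩, hx⟩)
    refine ⟨t, top_le_iff.1 fun x hx => ?_⟩
    obtain ⟨U, hU⟩ := Set.mem_iUnion.1 (ht (Set.mem_univ x))
    obtain ⟨hUt, hxU⟩ := Set.mem_iUnion.1 hU
    exact TopologicalSpace.Opens.mem_iSup.2 ⟨⟨U, hUt⟩, hxU⟩
  suffices ∀ N : ℕ, ∀ {X : Scheme.{u}} (β : X ⟶ X'), Good β →
      ∑ U ∈ S, (len (β.app U.1).hom).toNat = N → HasChain β by
    intro X β hβ
    exact this _ β hβ rfl
  intro N
  induction N using Nat.strong_induction_on with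
  | _ N ih =>
    intro X β hβ hN
    by_cases h : ∀ U ∈ S, Function.Surjective (β.app U.1).hom
    · haveI := isIso_of_surjective_app β hβ S hS h
      exact hasChain_of_isIso β
    push Not at h
    obtain ⟨U₀, hU₀, hns⟩ := h
    obtain ⟨P, a, γ, haγ, hγ, hstep, hle, hlt⟩ := exists_step β hβ U₀.2 hns
    subst haγ
    refine hasChain_cons hstep (ih _ ?_ γ hγ rfl)
    rw [← hN]
    exact Finset.sum_lt_sum (fun U _ => hle U.1 U.2) ⟨U₀, hU₀, hlt⟩

end Groth.Agent.PrimePushLib
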