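import Groth.Agent.FerrandPush.Of
import Groth.Agent.FerrandPush.BaseChange
import Groth.Agent.PrimePushLib.Alg

/-!
# One pushout step along a prime algebra
-/

set_option autoImplicit false
set_option backward.isDefEq.respectTransparency false
set_option linter.style.haveILetI false
set_option maxHeartbeats 800000
universe u
open CategoryTheory CategoryTheory.Limits AlgebraicGeometry
open Groth.Agent.FerrandPush

namespace Groth.Agent.PrimePushLib

/-- Opens with affine traces on both legs of a pushout are Milnor squares (after `exists_cart_of_affineOpen`). -/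
theorem exists_cart_of_affine_preimage {X Y Z P : Scheme.{u}} {i : Z ⟶ X} {j : Z ⟶ Y} [IsClosedImmersion i]
    [IsAffineHom j] {a : X ⟶ P} {b : Y ⟶ P} [IsAffineHom a] [IsAffineHom b]
    (hP : IsPushout i j a b) {W : P.Opens} (hWa : IsAffineOpen (a ⁻¹ᵁ W)) (hWb : IsAffineOpen (b ⁻¹ᵁ W)) :
    ∃ α : Chart i j, α.U = a ⁻¹ᵁ W ∧ ∃ ρ : α.obj ⟶ P, IsOpenImmersion ρ ∧ Set.range ρ = (W : Set P) ∧
      IsPullback α.cart.iA' α.hU.fromSpec ρ a ∧ IsPullback α.cart.iB α.hV.fromSpec ρ b := by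
  have htr : ∀ O : P.Opens, i ⁻¹ᵁ (a ⁻¹ᵁ O) = j ⁻¹ᵁ (b ⁻¹ᵁ O) := fun O => by
    rw [← Scheme.Hom.comp_preimage, ← Scheme.Hom.comp_preimage, hP.w]
  let chartOf : P.affineOpens → Chart i j := fun O =>
    ⟨(⟨a ⁻¹ᵁ O.1, O.2.preimage a⟩, ⟨b ⁻¹ᵁ O.1, O.2.preimage b⟩), htr O.1⟩
  have hX : ∀ x : X, ∃ α : Chart i j, x ∈ α.U := fun x => by
    obtain ⟨U, hU, hx, -⟩ := exists_isAffineOpen_mem_and_subset (U := ⊤) (show a x ∈ (⊤ : P.Opens) from trivial)
    exact ⟨chartOf ⟨U, hU⟩, hx⟩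
  have hY : ∀ y : Y, ∃ α : Chart i j, y ∈ α.V := fun y => by
    obtain ⟨U, hU, hy, -⟩ := exists_isAffineOpen_mem_and_subset (U := ⊤) (show b y ∈ (⊤ : P.Opens) from trivial)
    exact ⟨chartOf ⟨U, hU⟩, hy⟩
  obtain ⟨a₀, b₀, hP₀, ha, hb⟩ := exists_pushout_charts i j hX hY
  let e := hP₀.isoIsPushout _ _ hP
  have ea : a₀ ≫ e.hom = a := hP₀.inl_isoIsPushout_hom _ _ hP
  have eb : b₀ ≫ e.hom = b := hP₀.inr_isoIsPushout_hom _ _ hP
  let α : Chart i j := ⟨(⟨a ⁻¹ᵁ W, hWa⟩, ⟨b ⁻¹ᵁ W, hWb⟩), htr W⟩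
  have hpA : IsPullback α.cart.iA' α.hU.fromSpec (chartι i j α ≫ e.hom) a :=
    (isPullback_chartι_U ha hX α).of_iso (Iso.refl _) (Iso.refl _) (Iso.refl _) e (by simp) (by simp)
      (by simp) (by simp [ea])
  have hpB : IsPullback α.cart.iB α.hV.fromSpec (chartι i j α ≫ e.hom) b :=
    (isPullback_chartι_V hb hY α).of_iso (Iso.refl _) (Iso.refl _) (Iso.refl _) e (by simp) (by simp)
      (by simp) (by simp [eb])
  refine ⟨α, rfl, chartι i j α ≫ e.hom, inferInstance, ?_, hpA, hpB⟩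
  ext x
  constructor
  · rintro ⟨c, rfl⟩
    rcases α.cart.exists_prime c with ⟨y, rfl⟩ | ⟨y, rfl⟩
    · have h2 := congrArg (fun t => t y) hpB.w
      simp only [Scheme.Hom.comp_apply] at h2 ⊢
      have h3 : α.hV.fromSpec y ∈ b ⁻¹ᵁ W := fromSpec_mem α.hV y
      exact h2.symm ▸ h3
    · have h2 := congrArg (fun t => t y) hpA.w
      simp only [Scheme.Hom.comp_apply] at h2 ⊢
      have h3 : α.hU.fromSpec y ∈ a ⁻¹ᵁ W := fromSpec_mem α.hU y
      exact h2.symm ▸ h3
  · intro hx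
    obtain ⟨β, c, hc⟩ := Scheme.IsLocallyDirected.ι_jointly_surjective (chartFunctor i j) (e.inv x)
    have hxx : e.hom (e.inv x) = x := by rw [← Scheme.Hom.comp_apply, e.inv_hom_id]; rfl
    rcases β.cart.exists_prime c with ⟨y, hy⟩ | ⟨y, hy⟩
    · have h0 : b (β.hV.fromSpec y) = x := by
        rw [← eb, ← Scheme.Hom.comp_apply, ← Category.assoc, hb β, Scheme.Hom.comp_apply, toGluedV,
          Scheme.Hom.comp_apply]
        exact (congrArg e.hom ((congrArg _ hy).trans hc)).trans hxx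
      obtain ⟨w, hw⟩ := mem_range_fromSpec α.hV (show β.hV.fromSpec y ∈ b ⁻¹ᵁ W by
        show b (β.hV.fromSpec y) ∈ W; rw [h0]; exact hx)
      exact ⟨α.cart.iB w, by rw [← Scheme.Hom.comp_apply, hpB.w, Scheme.Hom.comp_apply]; exact (congrArg b hw).trans h0⟩
    · have h0 : a (β.hU.fromSpec y) = x := by
        rw [← ea, ← Scheme.Hom.comp_apply, ← Category.assoc, ha β, Scheme.Hom.comp_apply, toGluedU,
          Scheme.Hom.comp_apply]
        exact (congrArg e.hom ((congrArg _ hy).trans hc)).trans hxx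
      obtain ⟨w, hw⟩ := mem_range_fromSpec α.hU (show β.hU.fromSpec y ∈ a ⁻¹ᵁ W by
        show a (β.hU.fromSpec y) ∈ W; rw [h0]; exact hx)
      exact ⟨α.cart.iA' w, by rw [← Scheme.Hom.comp_apply, hpA.w, Scheme.Hom.comp_apply]; exact (congrArg a hw).trans h0⟩


/-- Sections along a map from the spectrum of a field are injective. -/
theorem appLE_injective_of_field {K R : Type u} [Field K] [CommRing R] (φ : K →+* R) (hφ : Function.Injective φ)
    (V : (Spec (.of K)).Opens) (W : (Spec (.of R)).Opens)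
    (hW : W = Spec.map (CommRingCat.ofHom φ) ⁻¹ᵁ V) :
    Function.Injective ((Spec.map (CommRingCat.ofHom φ)).appLE V W hW.le).hom := by
  subst hW
  rw [← Scheme.Hom.app_eq_appLE]
  by_cases hV : ∃ z : Spec (.of K), z ∈ V
  · obtain ⟨z, hz⟩ := hV
    have hVt : V = ⊤ := top_le_iff.1 fun z' _ => by
      haveI : Subsingleton (Spec (.of K) : Scheme.{u}) := inferInstanceAs (Subsingleton (PrimeSpectrum K))
      rwa [Subsingleton.elim z' z]
    subst hVt
    intro x y hxy
    have hn := fun w => ConcreteCategory.congr_hom (Scheme.ΓSpecIso_naturality (CommRingCat.ofHom φ)) w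
    have h2 : φ ((Scheme.ΓSpecIso (.of K)).hom x) = φ ((Scheme.ΓSpecIso (.of K)).hom y) :=
      (hn x).symm.trans ((congrArg _ hxy).trans (hn y))
    exact (ConcreteCategory.bijective_of_isIso (Scheme.ΓSpecIso (.of K)).hom).1 (hφ h2)
  · have hVb : V = ⊥ := TopologicalSpace.Opens.ext (Set.ext fun z => ⟨fun hz => (hV ⟨z, hz⟩).elim, fun hz => hz.elim⟩)
    subst hVb
    haveI : Subsingleton Γ(Spec (.of K), ⊥) := CommRingCat.subsingleton_of_isTerminal (TopCat.Sheaf.isTerminalOfEmpty _)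
    exact Function.injective_of_subsingleton _

/-- Opens of the pushout with affine traces are affine, with sections embedded in those of the first leg. -/
theorem affine_and_injective {X P : Scheme.{u}} {K R : Type u} [Field K] [CommRing R] (φ : K →+* R)
    (hφ : Function.Injective φ) {i : Spec (.of R) ⟶ X} [IsClosedImmersion i] [IsAffineHom i]
    {a : X ⟶ P} {b : Spec (.of K) ⟶ P} [IsAffineHom a] [IsAffineHom b]
    (hP : IsPushout i (Spec.map (CommRingCat.ofHom φ)) a b) {W : P.Opens}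
    (hWa : IsAffineOpen (a ⁻¹ᵁ W)) (hWb : IsAffineOpen (b ⁻¹ᵁ W)) :
    IsAffineOpen W ∧ Function.Injective (a.app W).hom := by
  obtain ⟨α, hαU, ρ, hρo, hρW, hpA, -⟩ := exists_cart_of_affine_preimage hP hWa hWb
  haveI := hρo
  have hrange : ρ.opensRange = W := TopologicalSpace.Opens.ext hρW
  have hW : IsAffineOpen W := hrange ▸ isAffineOpen_opensRange ρ
  refine ⟨hW, ?_⟩
  have hq : Function.Injective α.cart.q := appLE_injective_of_field φ hφ α.V α.W α.W_eq
  have hsnd : Function.Injective α.cart.snd := fun x y h => by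
    refine α.cart.ext' x y (hq ?_) h
    rw [α.cart.w, α.cart.w, h]
  let e := IsOpenImmersion.isoOfRangeEq ρ hW.fromSpec (hρW.trans hW.range_fromSpec.symm)
  haveI : IsIso (Spec.preimage e.hom) := ⟨⟨Spec.preimage e.inv,
    Spec.map_injective (by rw [Spec.map_comp, Spec.map_preimage, Spec.map_preimage, Spec.map_id, e.inv_hom_id]),
    Spec.map_injective (by rw [Spec.map_comp, Spec.map_preimage, Spec.map_preimage, Spec.map_id, e.hom_inv_id])⟩⟩
  have hU : α.U ≤ a ⁻¹ᵁ W := hαU.le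
  have key : a.appLE W α.U hU = Spec.preimage e.hom ≫ CommRingCat.ofHom α.cart.snd := by
    apply Spec.map_injective
    rw [Spec.map_comp, Spec.map_preimage, ← cancel_mono hW.fromSpec, hW.SpecMap_appLE_fromSpec a α.hU hU,
      Category.assoc, IsOpenImmersion.isoOfRangeEq_hom_fac]
    exact hpA.w.symm
  have hinj : Function.Injective (a.appLE W α.U hU).hom := by
    rw [key]
    exact hsnd.comp (ConcreteCategory.bijective_of_isIso (Spec.preimage e.hom)).1
  intro x y hxy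
  refine hinj ?_
  rw [Scheme.Hom.appLE, CommRingCat.comp_apply, CommRingCat.comp_apply]
  exact congrArg _ hxy

/-- A finite map with injective sections and cokernels of finite length over affine opens. -/
structure Good {X X' : Scheme.{u}} (β : X ⟶ X') : Prop where
  fin : IsFinite β
  inj : ∀ U : X'.Opens, IsAffineOpen U → Function.Injective (β.app U).hom
  len : ∀ U : X'.Opens, IsAffineOpen U → len (β.app U).hom ≠ ⊤

/-- The first step of a chain. -/
def IsStep {X P : Scheme.{u}} (a : X ⟶ P) : Prop :=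
  ∃ (x : P) (A : Type u) (_ : CommRing A) (_ : Algebra (P.residueField x) A)
    (_ : IsSimpleOrder (Subalgebra (P.residueField x) A)) (j : Spec (CommRingCat.of A) ⟶ X),
    IsClosedImmersion j ∧ IsPushout j (Spec.map (CommRingCat.ofHom (algebraMap (P.residueField x) A)))
      a (P.fromSpecResidueField x)

theorem isClosed_singleton_of_isMaximal {X' : Scheme.{u}} [JacobsonSpace X'] {U : X'.Opens}
    (hU : IsAffineOpen U) (p : PrimeSpectrum Γ(X', U)) (hp : p.asIdeal.IsMaximal) :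
    IsClosed ({hU.fromSpec p} : Set X') := by
  have h1 : p ∈ closedPoints (PrimeSpectrum Γ(X', U)) :=
    (PrimeSpectrum.isClosed_singleton_iff_isMaximal p).2 hp
  have h2 := hU.fromSpec.isOpenEmbedding.preimage_closedPoints
  have h3 : p ∈ hU.fromSpec ⁻¹' closedPoints X' := h2 ▸ h1
  exact h3

/-- Comparison of cokernels through a factorisation. -/
theorem compare {X P X' : Scheme.{u}} [IsLocallyNoetherian X'] {a : X ⟶ P} {γ : P ⟶ X'} {β : X ⟶ X'}
    (h : a ≫ γ = β) (hβ : Good β) {U : X'.Opens} (hU : IsAffineOpen U)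
    (hinj : Function.Injective (a.app (γ ⁻¹ᵁ U)).hom) :
    Function.Injective (γ.app U).hom ∧
      (γ.app U).hom.Finite ∧ len (γ.app U).hom ≤ len (β.app U).hom ∧
      (len (β.app U).hom ≠ ⊤ → ¬ Function.Surjective (a.app (γ ⁻¹ᵁ U)).hom →
        (len (γ.app U).hom).toNat < (len (β.app U).hom).toNat) := by
  subst h
  haveI := hβ.fin
  haveI : IsNoetherianRing Γ(X', U) := IsLocallyNoetherian.component_noetherian ⟨U, hU⟩
  have hc : (a.app (γ ⁻¹ᵁ U)).hom.comp (γ.app U).hom = ((a ≫ γ).app U).hom := by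
    rw [Scheme.Hom.comp_app, CommRingCat.hom_comp]
  have hi := hβ.inj U hU
  refine ⟨Function.Injective.of_comp (f := (a.app (γ ⁻¹ᵁ U)).hom) ?_, ?_, len_le _ _ _ hc hinj⟩
  · rw [← RingHom.coe_comp, hc]; exact hi
  · letI := (γ.app U).hom.toAlgebra
    letI := ((a ≫ γ).app U).hom.toAlgebra
    haveI : Module.Finite Γ(X', U) Γ(X, (a ≫ γ) ⁻¹ᵁ U) := IsFinite.finite_app (f := a ≫ γ) U hU
    let l : Γ(P, γ ⁻¹ᵁ U) →ₐ[Γ(X', U)] Γ(X, (a ≫ γ) ⁻¹ᵁ U) :=
      ⟨(a.app (γ ⁻¹ᵁ U)).hom, fun r => RingHom.congr_fun hc r⟩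
    exact Module.Finite.of_injective l.toLinearMap hinj

/-- One step. -/
theorem exists_step {X X' : Scheme.{u}} [IsLocallyNoetherian X'] [JacobsonSpace X'] (β : X ⟶ X') (hβ : Good β)
    {U₀ : X'.Opens} (hU₀ : IsAffineOpen U₀) (hns : ¬ Function.Surjective (β.app U₀).hom) :
    ∃ (P : Scheme.{u}) (a : X ⟶ P) (γ : P ⟶ X'), a ≫ γ = β ∧ Good γ ∧ IsStep a ∧
      (∀ U : X'.Opens, IsAffineOpen U → (len (γ.app U).hom).toNat ≤ (len (β.app U).hom).toNat) ∧
      (len (γ.app U₀).hom).toNat < (len (β.app U₀).hom).toNat := by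
  haveI := hβ.fin
  let A := Γ(X', U₀)
  let B := Γ(X, β ⁻¹ᵁ U₀)
  letI : Algebra A B := (β.app U₀).hom.toAlgebra
  haveI : IsNoetherianRing A := IsLocallyNoetherian.component_noetherian ⟨U₀, hU₀⟩
  haveI : Module.Finite A B := IsFinite.finite_app (f := β) U₀ hU₀
  obtain ⟨B2, J, hJ, hne, hmax, hm⟩ := exists_top_step (A := A) (B := B) hns
  haveI := hm
  let m := J.comap B2.val.toRingHom
  letI : Field (B2 ⧸ m) := Ideal.Quotient.field m
  let φ : (B2 ⧸ m) →+* (B ⧸ J) := Ideal.quotientMap J B2.val.toRingHom le_rfl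
  have hφ : Function.Injective φ := Ideal.quotientMap_injective
  have hmk : ∀ b : B, Ideal.Quotient.mk J b ∈ Set.range φ → b ∈ B2 := by
    rintro b ⟨q, hq⟩
    obtain ⟨y, rfl⟩ := Ideal.Quotient.mk_surjective q
    rw [Ideal.quotientMap_mk] at hq
    have := add_mem (hJ _ (Ideal.Quotient.eq.1 hq.symm)) y.2
    simpa using this
  let f0 : A →+* (B2 ⧸ m) := (Ideal.Quotient.mk m).comp (algebraMap A B2)
  haveI : Module.Finite A B2 := Module.Finite.iff_fg.2 (IsNoetherian.noetherian B2.toSubmodule)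
  have hf0 : f0.Finite := (RingHom.Finite.of_surjective _ Ideal.Quotient.mk_surjective).comp
    (RingHom.finite_algebraMap.2 inferInstance)
  haveI : Algebra.IsIntegral A B2 := Algebra.IsIntegral.of_finite A B2
  have hp : (RingHom.ker f0).IsMaximal := by
    have := Ideal.isMaximal_comap_of_isIntegral_of_isMaximal (R := A) m
    rwa [show RingHom.ker f0 = m.comap (algebraMap A B2) from by
      rw [← RingHom.comap_ker, Ideal.mk_ker]]
  let T : Scheme.{u} := Spec (.of (B2 ⧸ m))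
  let t : T ⟶ X' := Spec.map (CommRingCat.ofHom f0) ≫ hU₀.fromSpec
  haveI : IsFinite (Spec.map (CommRingCat.ofHom f0)) := (IsFinite.SpecMap_iff _).2 hf0
  haveI hfinT : IsFinite t := by
    let p := RingHom.ker f0
    haveI : p.IsMaximal := hp
    letI : Field (A ⧸ p) := Ideal.Quotient.field p
    let g : (A ⧸ p) →+* (B2 ⧸ m) := RingHom.kerLift f0
    haveI : IsFinite (Spec.map (CommRingCat.ofHom g)) := (IsFinite.SpecMap_iff _).2
      (RingHom.Finite.of_comp_finite (f := Ideal.Quotient.mk p) (by show (g.comp (Ideal.Quotient.mk p)).Finite; rw [show g.comp (Ideal.Quotient.mk p) = f0 from RingHom.ext fun r => rfl]; exact hf0))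
    let c : Spec (.of (A ⧸ p)) ⟶ X' := Spec.map (CommRingCat.ofHom (Ideal.Quotient.mk p)) ≫ hU₀.fromSpec
    haveI : IsClosedImmersion (Spec.map (CommRingCat.ofHom (Ideal.Quotient.mk p))) :=
      IsClosedImmersion.spec_of_surjective _ Ideal.Quotient.mk_surjective
    haveI : IsClosedImmersion c := by
      refine IsClosedImmersion.of_isPreimmersion c ?_
      have : Set.range c = {hU₀.fromSpec ⟨p, inferInstance⟩} := by
        refine Set.eq_singleton_iff_nonempty_unique_mem.2 ⟨Set.range_nonempty _, ?_⟩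
        rintro _ ⟨q, rfl⟩
        show hU₀.fromSpec (Spec.map (CommRingCat.ofHom (Ideal.Quotient.mk p)) q) = _
        refine congrArg _ (PrimeSpectrum.ext ?_)
        show Ideal.comap (Ideal.Quotient.mk p) q.asIdeal = p
        refine (hp.eq_of_le (Ideal.IsPrime.ne_top inferInstance) fun x hx => ?_).symm
        show Ideal.Quotient.mk p x ∈ q.asIdeal
        rw [Ideal.Quotient.eq_zero_iff_mem.2 hx]
        exact q.asIdeal.zero_mem
      rw [this]
      exact isClosed_singleton_of_isMaximal hU₀ _ hp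
    have : t = Spec.map (CommRingCat.ofHom g) ≫ c := by
      show _ = _ ≫ _ ≫ _
      rw [← Spec.map_comp_assoc]
      rfl
    rw [this]
    infer_instance
  have hV₀ : IsAffineOpen (β ⁻¹ᵁ U₀) := hU₀.preimage β
  let ξ : Spec (.of (B ⧸ J)) ⟶ T := Spec.map (CommRingCat.ofHom φ)
  let ι₀ : Spec (.of (B ⧸ J)) ⟶ Spec (.of B) := Spec.map (CommRingCat.ofHom (Ideal.Quotient.mk J))
  haveI : IsClosedImmersion ι₀ := IsClosedImmersion.spec_of_surjective _ Ideal.Quotient.mk_surjective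
  let ι : Spec (.of (B ⧸ J)) ⟶ X := ι₀ ≫ hV₀.fromSpec
  have hfrom : hV₀.fromSpec ≫ β = Spec.map (β.app U₀) ≫ hU₀.fromSpec := by
    rw [Scheme.Hom.app_eq_appLE, hU₀.SpecMap_appLE_fromSpec β hV₀]
  have hsq : ι ≫ β = ξ ≫ t := by
    show (ι₀ ≫ hV₀.fromSpec) ≫ β = ξ ≫ _ ≫ _
    rw [Category.assoc, hfrom, ← Category.assoc, ← Category.assoc]
    congr 1
    rw [← Spec.map_comp, ← Spec.map_comp]
    rfl
  haveI : IsFinite ξ := by
    refine (IsFinite.SpecMap_iff _).2 ?_
    refine RingHom.Finite.of_comp_finite (f := f0) ?_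
    show (φ.comp f0).Finite
    rw [show φ.comp f0 = (Ideal.Quotient.mk J).comp (algebraMap A B) from RingHom.ext fun r => rfl]
    exact (RingHom.Finite.of_surjective _ Ideal.Quotient.mk_surjective).comp
      (RingHom.finite_algebraMap.2 inferInstance)
  haveI : IsClosedImmersion ι := by
    refine IsClosedImmersion.of_isPreimmersion ι ?_
    haveI : IsProper (ι ≫ β) := by rw [hsq]; infer_instance
    haveI : IsProper ι := IsProper.of_comp ι β
    exact ι.isClosedMap.isClosed_range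
  haveI : IsIntegralHom ξ := inferInstance
  obtain ⟨P, a, b, hP⟩ : ∃ (P : Scheme.{u}) (a : X ⟶ P) (b : T ⟶ P), IsPushout ι ξ a b :=
    let h := exists_chart_of_integral ι ξ (fun y => ⟨β ⁻¹ᵁ U₀, hV₀, fun z _ => by
      show ι z ∈ β ⁻¹ᵁ U₀
      exact SetLike.mem_coe.1 (hV₀.range_fromSpec ▸ ⟨ι₀ z, rfl⟩)⟩)
    let ⟨a, b, h', _⟩ := exists_pushout_charts ι ξ h.1 h.2
    ⟨_, a, b, h'⟩
  obtain ⟨haint, hbc, -, -⟩ := props_of_isPushout (fun y => ⟨β ⁻¹ᵁ U₀, hV₀, fun z _ => by
      show ι z ∈ β ⁻¹ᵁ U₀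
      exact SetLike.mem_coe.1 (hV₀.range_fromSpec ▸ ⟨ι₀ z, rfl⟩)⟩) hP
  haveI := haint
  haveI := hbc
  let γ : P ⟶ X' := hP.desc β t hsq
  have haγ : a ≫ γ = β := hP.inl_desc _ _ _
  have hbγ : b ≫ γ = t := hP.inr_desc _ _ _
  have hW : ∀ U : X'.Opens, IsAffineOpen U →
      IsAffineOpen (γ ⁻¹ᵁ U) ∧ Function.Injective (a.app (γ ⁻¹ᵁ U)).hom := by
    intro U hU
    refine affine_and_injective φ hφ hP ?_ ?_
    · rw [← Scheme.Hom.comp_preimage, haγ]; exact hU.preimage β
    · rw [← Scheme.Hom.comp_preimage, hbγ]; exact hU.preimage t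
  refine ⟨P, a, γ, haγ, ?_⟩
  have hWns : ¬ Function.Surjective (a.app (γ ⁻¹ᵁ U₀)).hom := by
    intro hs
    obtain ⟨hW₀, -⟩ := hW U₀ hU₀
    have hbr : Set.range b ⊆ Set.range hW₀.fromSpec := by
      rw [hW₀.range_fromSpec]
      rintro _ ⟨y, rfl⟩
      show γ (b y) ∈ U₀
      rw [← Scheme.Hom.comp_apply, hbγ]
      exact SetLike.mem_coe.1 (hU₀.range_fromSpec ▸ ⟨Spec.map (CommRingCat.ofHom f0) y, rfl⟩)
    let b' := IsOpenImmersion.lift hW₀.fromSpec b hbr
    have hle : β ⁻¹ᵁ U₀ ≤ a ⁻¹ᵁ (γ ⁻¹ᵁ U₀) := by rw [← Scheme.Hom.comp_preimage, haγ]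
    haveI : IsClosedImmersion (Spec.map (a.appLE (γ ⁻¹ᵁ U₀) (β ⁻¹ᵁ U₀) hle)) := by
      refine IsClosedImmersion.spec_of_surjective _ ?_
      have heq : β ⁻¹ᵁ U₀ = a ⁻¹ᵁ (γ ⁻¹ᵁ U₀) := by rw [← Scheme.Hom.comp_preimage, haγ]
      rw [Scheme.Hom.appLE]
      haveI : IsIso (X.presheaf.map (homOfLE hle).op) := by
        rw [show (homOfLE hle).op = (eqToHom heq).op from Subsingleton.elim _ _]
        infer_instance
      exact (ConcreteCategory.bijective_of_isIso (X.presheaf.map (homOfLE hle).op)).2.comp hs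
    have hfac : ι₀ ≫ Spec.map (a.appLE (γ ⁻¹ᵁ U₀) (β ⁻¹ᵁ U₀) hle) = ξ ≫ b' := by
      rw [← cancel_mono hW₀.fromSpec, Category.assoc, Category.assoc, IsOpenImmersion.lift_fac,
        hW₀.SpecMap_appLE_fromSpec a hV₀ hle, ← Category.assoc]
      exact hP.w
    haveI : IsClosedImmersion (ξ ≫ b') := by rw [← hfac]; infer_instance
    haveI : IsClosedImmersion ξ := IsClosedImmersion.of_comp ξ b'
    have hsurj : Function.Surjective φ := by
      have := (IsClosedImmersion.isAffine_surjective_of_isAffine ξ).2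
      intro x
      obtain ⟨y, hy⟩ := this ((Scheme.ΓSpecIso (.of (B ⧸ J))).inv x)
      refine ⟨(Scheme.ΓSpecIso (.of (B2 ⧸ m))).hom y, ?_⟩
      have h3 := ConcreteCategory.congr_hom (Scheme.ΓSpecIso_naturality (CommRingCat.ofHom φ)) y
      refine h3.symm.trans ((congrArg _ hy).trans ?_)
      exact ConcreteCategory.congr_hom (Scheme.ΓSpecIso (.of (B ⧸ J))).inv_hom_id x
    exact hne (top_le_iff.1 fun x _ => hmk x (hsurj _))
  have hlen : ∀ U : X'.Opens, IsAffineOpen U → Function.Injective (γ.app U).hom ∧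
      (γ.app U).hom.Finite ∧ len (γ.app U).hom ≤ len (β.app U).hom ∧
      (len (β.app U).hom ≠ ⊤ → ¬ Function.Surjective (a.app (γ ⁻¹ᵁ U)).hom →
        (len (γ.app U).hom).toNat < (len (β.app U).hom).toNat) := by
    intro U hU
    exact compare haγ hβ hU (hW U hU).2
  refine ⟨⟨?_, fun U hU => (hlen U hU).1, fun U hU => ne_top_of_le_ne_top (hβ.len U hU) (hlen U hU).2.2.1⟩, ?_,
    fun U hU => ENat.toNat_le_toNat (hlen U hU).2.2.1 (hβ.len U hU),
    (hlen U₀ hU₀).2.2.2 (hβ.len U₀ hU₀) hWns⟩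
  · haveI : IsAffineHom γ := ⟨fun U hU => (hW U hU).1⟩
    exact ⟨fun U hU => (hlen U hU).2.1⟩
  · let y : T := IsLocalRing.closedPoint (B2 ⧸ m)
    let x : P := b y
    let ψ : P.residueField x ⟶ .of (B2 ⧸ m) := P.descResidueField (Scheme.stalkClosedPointTo b)
    have hbψ : Spec.map ψ ≫ P.fromSpecResidueField x = b :=
      Scheme.descResidueField_stalkClosedPointTo_fromSpecResidueField (B2 ⧸ m) P b
    haveI : IsClosedImmersion (Spec.map ψ ≫ P.fromSpecResidueField x) := by rw [hbψ]; infer_instance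
    haveI : IsClosedImmersion (Spec.map ψ) := IsClosedImmersion.of_comp (Spec.map ψ) (P.fromSpecResidueField x)
    have hψs : Function.Surjective ψ.hom := by
      have := (IsClosedImmersion.isAffine_surjective_of_isAffine (Spec.map ψ)).2
      intro z
      obtain ⟨w, hw⟩ := this ((Scheme.ΓSpecIso (.of (B2 ⧸ m))).inv z)
      refine ⟨(Scheme.ΓSpecIso (P.residueField x)).hom w, ?_⟩
      have h3 := ConcreteCategory.congr_hom (Scheme.ΓSpecIso_naturality ψ) w
      refine h3.symm.trans ((congrArg _ hw).trans ?_)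
      exact ConcreteCategory.congr_hom (Scheme.ΓSpecIso (.of (B2 ⧸ m))).inv_hom_id z
    haveI : IsIso ψ := (ConcreteCategory.isIso_iff_bijective ψ).2 ⟨ψ.hom.injective, hψs⟩
    letI alg : Algebra (P.residueField x) (B ⧸ J) := (φ.comp ψ.hom).toAlgebra
    refine ⟨x, B ⧸ J, inferInstance, alg, isSimpleOrder_subalgebra hJ hne hmax fun z => ⟨?_, ?_⟩, ι,
      inferInstance, ?_⟩
    · rintro ⟨r, rfl⟩
      obtain ⟨q, hq⟩ := Ideal.Quotient.mk_surjective (ψ.hom r)
      refine ⟨q, q.2, ?_⟩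
      show _ = φ (ψ.hom r)
      rw [← hq]
      rfl
    · rintro ⟨q, hq, rfl⟩
      obtain ⟨r, hr⟩ := hψs (Ideal.Quotient.mk m ⟨q, hq⟩)
      exact ⟨r, by show φ (ψ.hom r) = _; rw [hr]; rfl⟩
    · refine hP.of_iso (Iso.refl _) (Iso.refl _) (asIso (Spec.map ψ)) (Iso.refl _) (by simp) ?_ (by simp) ?_
      · simp only [asIso_hom, Iso.refl_hom, Category.id_comp]
        rw [← Spec.map_comp]
        rfl
      · simp only [asIso_hom, Iso.refl_hom, Category.comp_id]
        exact hbψ.symm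

end Groth.Agent.PrimePushLib
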